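import Groth.Agent.StableK0Lib.Nilp

/-! Local trivializations and the arithmetic of a nilpotent class. -/

set_option autoImplicit false
set_option linter.style.haveILetI false

universe u

open TensorProduct

namespace Groth.Agent.StableK0Lib

variable {R : Type u} [CommRing R]

theorem exists_local_pair [IsNoetherianRing R] (P : Type u) [AddCommGroup P] [Module R P] [Module.Finite R P]
    [Module.Projective R P] (r : ℕ) (hr : ∀ p, Module.rankAtStalk (R := R) P p = r) (q : PrimeSpectrum R) :
    ∃ (s : R) (α : P →ₗ[R] (Fin r → R)) (β : (Fin r → R) →ₗ[R] P),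
      s ∉ q.asIdeal ∧ (∀ a, β (α a) = s • a) ∧ ∀ b, α (β b) = s • b := by
  classical
  let S := q.asIdeal.primeCompl
  let f := LocalizedModule.mkLinearMap S P
  haveI : Module.Free (Localization.AtPrime q.asIdeal) (LocalizedModule S P) :=
    Module.free_of_flat_of_isLocalRing
  have hfin : Module.finrank (Localization.AtPrime q.asIdeal) (LocalizedModule S P) = r := hr q
  let b := Module.finBasisOfFinrankEq (Localization.AtPrime q.asIdeal) (LocalizedModule S P) hfin
  choose pt hpt using fun i => IsLocalizedModule.surj S f (b i)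
  let β : (Fin r → R) →ₗ[R] P := Fintype.linearCombination R fun i => (pt i).1
  have hβ : ∀ z : Fin r → R, f (β z) = ∑ i, (z i * ((pt i).2 : R)) • b i := fun z => by
    simp only [β, Fintype.linearCombination_apply, map_sum, map_smul]
    refine Finset.sum_congr rfl fun i _ => ?_
    rw [← hpt i, mul_smul]
    rfl
  have hkill : ∀ z, β z = 0 → ∃ t : R, t ∈ S ∧ t • z = 0 := fun z hz => by
    have h1 : ∑ i, algebraMap R (Localization.AtPrime q.asIdeal) (z i * (pt i).2) • b i = 0 := by
      simp only [IsScalarTower.algebraMap_smul]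
      rw [← hβ, hz, map_zero]
    have h2 := Fintype.linearIndependent_iff.1 b.linearIndependent _ h1
    choose t ht using fun i => (IsLocalization.map_eq_zero_iff S _ _).1 (h2 i)
    refine ⟨∏ i, ((t i : R) * (pt i).2), prod_mem fun i _ => mul_mem (t i).2 (pt i).2.2, funext fun i => ?_⟩
    rw [Pi.smul_apply, smul_eq_mul, ← Finset.mul_prod_erase Finset.univ _ (Finset.mem_univ i), mul_assoc,
      mul_comm _ (z i), ← mul_assoc, show (t i : R) * (pt i).2 * z i = (t i : R) * (z i * (pt i).2) by ring, ht i,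
      zero_mul]
    rfl
  have hsurj : ∀ x, ∃ t : R, t ∈ S ∧ t • x ∈ LinearMap.range β := fun x => by
    obtain ⟨⟨d, hd⟩, hd'⟩ := IsLocalization.exist_integer_multiples S Finset.univ fun i => b.repr (f x) i
    choose c hc using fun i => hd' i (Finset.mem_univ i)
    let z : Fin r → R := fun i => c i * ∏ j ∈ Finset.univ.erase i, ((pt j).2 : R)
    have h1 : f (β z) = f ((d * ∏ i, ((pt i).2 : R)) • x) := by
      rw [hβ, map_smul]
      conv_rhs => rw [← b.sum_repr (f x), Finset.smul_sum]
      refine Finset.sum_congr rfl fun i _ => ?_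
      show (c i * (∏ j ∈ Finset.univ.erase i, ((pt j).2 : R)) * (pt i).2) • b i = _
      rw [mul_assoc, Finset.prod_erase_mul _ _ (Finset.mem_univ i), mul_comm, mul_smul,
        ← IsScalarTower.algebraMap_smul (Localization.AtPrime q.asIdeal) (c i), hc i, smul_assoc,
        mul_comm d, mul_smul]
    obtain ⟨u, hu⟩ := (IsLocalizedModule.eq_iff_exists S f).1 h1
    refine ⟨(u : R) * (d * ∏ i, ((pt i).2 : R)), mul_mem u.2 (mul_mem hd (prod_mem fun i _ => (pt i).2.2)),
      (u : R) • z, ?_⟩
    rw [map_smul, mul_smul]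
    exact hu
  obtain ⟨gP, hgP⟩ := (Module.Finite.fg_top : (⊤ : Submodule R P).FG)
  choose tP htP htP' using hsurj
  let s₁ : R := ∏ x ∈ gP, tP x
  have hs₁ : ∀ x, s₁ • x ∈ LinearMap.range β := fun x => by
    have hx : x ∈ Submodule.span R (gP : Set P) := hgP ▸ trivial
    induction hx using Submodule.span_induction with
    | mem y hy =>
      rw [show s₁ = (∏ z ∈ gP.erase y, tP z) * tP y from (Finset.prod_erase_mul _ _ hy).symm, mul_smul]
      exact Submodule.smul_mem _ _ (htP' y)
    | zero => simp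
    | add y z _ _ hy hz => rw [smul_add]; exact add_mem hy hz
    | smul c y _ hy => rw [smul_comm]; exact Submodule.smul_mem _ _ hy
  obtain ⟨gK, hgK⟩ := (IsNoetherian.noetherian (LinearMap.ker β))
  choose tK htK htK' using fun z : gK => hkill z.1 (LinearMap.mem_ker.1 (hgK ▸ Submodule.subset_span z.2))
  let s₂ : R := ∏ z, tK z
  have hs₂ : ∀ z, β z = 0 → s₂ • z = 0 := fun z hz => by
    have hz' : z ∈ Submodule.span R (gK : Set (Fin r → R)) := hgK ▸ LinearMap.mem_ker.2 hz
    clear hz
    induction hz' using Submodule.span_induction with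
    | mem y hy =>
      rw [show s₂ = (∏ w ∈ Finset.univ.erase ⟨y, hy⟩, tK w) * tK ⟨y, hy⟩ from
        (Finset.prod_erase_mul _ _ (Finset.mem_univ _)).symm, mul_smul, htK' ⟨y, hy⟩, smul_zero]
    | zero => simp
    | add y w _ _ hy hw => rw [smul_add, hy, hw, add_zero]
    | smul c y _ hy => rw [smul_comm, hy, smul_zero]
  obtain ⟨α₁, hα₁⟩ := Module.projective_lifting_property β.rangeRestrict
    ((s₁ • LinearMap.id).codRestrict (LinearMap.range β) hs₁) β.surjective_rangeRestrict
  have h1 : ∀ a, β (α₁ a) = s₁ • a := fun a => congrArg Subtype.val (LinearMap.congr_fun hα₁ a)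
  refine ⟨s₂ * s₁, s₂ • α₁, β,
    mul_mem (prod_mem fun z _ => htK z) (prod_mem fun x _ => htP x), fun a => ?_, fun z => ?_⟩
  · rw [LinearMap.smul_apply, map_smul, h1, mul_smul]
  · have h2 : β (α₁ (β z) - s₁ • z) = 0 := by rw [map_sub, h1, map_smul, sub_self]
    have h3 := hs₂ _ h2
    rw [smul_sub, sub_eq_zero] at h3
    rw [LinearMap.smul_apply, h3, mul_smul]

theorem exists_pow_eq (c : ℤ) (n : ℕ) : ∃ q : Polynomial ℤ,
    (Polynomial.C c + Polynomial.X) ^ (n + 1) =
      Polynomial.C (c ^ (n + 1)) + Polynomial.C ((n + 1 : ℤ) * c ^ n) * Polynomial.X + q * Polynomial.X ^ 2 := by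
  induction n with
  | zero => exact ⟨0, by simp⟩
  | succ n ih =>
    obtain ⟨q, hq⟩ := ih
    refine ⟨q * (Polynomial.C c + Polynomial.X) + Polynomial.C ((n + 1 : ℤ) * c ^ n), ?_⟩
    rw [pow_succ, hq]
    simp only [map_mul, map_pow, map_add, map_one, Nat.cast_succ]
    ring

/-- A class whose power is a scalar and which differs from the scalar by a nilpotent is that scalar up to torsion. -/
theorem exists_torsion {E : Type*} [Ring E] (A : E) (r n k : ℕ) (hr : 0 < r)
    (hA : A ^ (n + 1) = ((r ^ (n + 1) : ℕ) : E)) (hk : (A - (r : E)) ^ (k + 1) = 0) :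
    ((((n + 1) * r ^ n) ^ k : ℕ) : E) * (A - (r : E)) = 0 := by
  obtain ⟨q, hq⟩ := exists_pow_eq (r : ℤ) n
  let ev : Polynomial ℤ →ₐ[ℤ] E := Polynomial.aeval (A - (r : E))
  have hX : ev Polynomial.X = A - (r : E) := Polynomial.aeval_X _
  have h0 : ev (Polynomial.C ((n + 1 : ℤ) * (r : ℤ) ^ n) * Polynomial.X + q * Polynomial.X ^ 2) = 0 := by
    have h1 := congrArg ev hq
    have h2 : ev ((Polynomial.C (r : ℤ) + Polynomial.X) ^ (n + 1)) = A ^ (n + 1) := by
      rw [map_pow, map_add, hX, Polynomial.aeval_C]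
      simp
    rw [h2, hA, add_assoc, map_add, Polynomial.aeval_C] at h1
    have h3 : algebraMap ℤ E ((r : ℤ) ^ (n + 1)) = ((r ^ (n + 1) : ℕ) : E) := by simp
    rw [h3] at h1
    exact add_eq_left.1 h1.symm
  set u : Polynomial ℤ := Polynomial.C ((n + 1 : ℤ) * (r : ℤ) ^ n) with hu
  have hj : ∀ j, ev (u ^ j * Polynomial.X) = ev ((-q) ^ j * Polynomial.X ^ (j + 1)) := by
    intro j
    induction j with
    | zero => simp
    | succ j ih =>
      have e1 : ev (u * Polynomial.X) = ev (-q * Polynomial.X ^ 2) := by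
        rw [← sub_eq_zero, ← map_sub, show u * Polynomial.X - -q * Polynomial.X ^ 2 =
          u * Polynomial.X + q * Polynomial.X ^ 2 by ring]
        exact h0
      calc ev (u ^ (j + 1) * Polynomial.X) = ev u * ev (u ^ j * Polynomial.X) := by rw [← map_mul]; congr 1; ring
        _ = ev u * ev ((-q) ^ j * Polynomial.X ^ (j + 1)) := by rw [ih]
        _ = ev ((-q) ^ j * Polynomial.X ^ j) * ev (u * Polynomial.X) := by rw [← map_mul, ← map_mul]; congr 1; ring
        _ = ev ((-q) ^ j * Polynomial.X ^ j) * ev (-q * Polynomial.X ^ 2) := by rw [e1]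
        _ = _ := by rw [← map_mul]; congr 1; ring
  have h1 := hj k
  rw [map_mul, map_mul, map_pow, map_pow, map_pow, hX, hk, mul_zero, hu, Polynomial.aeval_C] at h1
  rw [← h1]
  simp

end Groth.Agent.StableK0Lib
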