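import Mathlib

/-! Stable isomorphism classes of finite projective modules. -/

set_option autoImplicit false
set_option linter.style.haveILetI false

universe u

open TensorProduct

namespace Groth.Agent.StableK0Lib

variable (R : Type u) [CommRing R]

/-- A finite projective module. -/
structure Obj where
  carrier : Type u
  [acg : AddCommGroup carrier]
  [mod : Module R carrier]
  [fin : Module.Finite R carrier]
  [proj : Module.Projective R carrier]

attribute [instance] Obj.acg Obj.mod Obj.fin Obj.proj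

variable {R}

instance instProjectivePi (M : Type u) [AddCommGroup M] [Module R M] [Module.Projective R M] (n : ℕ) :
    Module.Projective R (Fin n → M) :=
  Module.Projective.of_equiv (DirectSum.linearEquivFunOnFintype R (Fin n) (fun _ => M))

/-- Stable isomorphism. -/
def StIso (X Y : Obj R) : Prop :=
  ∃ a : ℕ, Nonempty ((X.carrier × (Fin a → R)) ≃ₗ[R] (Y.carrier × (Fin a → R)))

theorem stIso_of_equiv {X Y : Obj R} (e : X.carrier ≃ₗ[R] Y.carrier) : StIso X Y :=
  ⟨0, ⟨e.prodCongr (.refl R _)⟩⟩

theorem stIso_iff_add {X Y : Obj R} {F : Type u} [AddCommGroup F] [Module R F] [Module.Finite R F]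
    [Module.Projective R F] (e : (X.carrier × F) ≃ₗ[R] (Y.carrier × F)) : StIso X Y := by
  obtain ⟨n, f, g, hf, hg, hfg⟩ := Module.Finite.exists_comp_eq_id_of_projective R F
  let Q := LinearMap.ker f
  let d : (Fin n → R) ≃ₗ[R] (F × Q) :=
    { toFun := fun z => (f z, ⟨z - g (f z), by
        simp [Q, show f (g (f z)) = f z from LinearMap.congr_fun hfg (f z)]⟩)
      map_add' := fun x y => Prod.ext (map_add f x y) (Subtype.ext (by simp; abel))
      map_smul' := fun c x => Prod.ext (map_smul f c x) (Subtype.ext (by simp [smul_sub]))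
      invFun := fun w => g w.1 + w.2
      left_inv := fun z => by simp
      right_inv := fun w => by
        have h1 : f (g w.1 + w.2) = w.1 := by
          rw [map_add, show f (g w.1) = w.1 from LinearMap.congr_fun hfg w.1, LinearMap.mem_ker.1 w.2.2, add_zero]
        refine Prod.ext h1 (Subtype.ext ?_)
        show g w.1 + (w.2 : Fin n → R) - g (f (g w.1 + w.2)) = w.2
        rw [h1, add_sub_cancel_left] }
  exact ⟨n, ⟨(((LinearEquiv.refl R X.carrier).prodCongr d).trans (LinearEquiv.prodAssoc R _ F Q).symm).trans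
    ((e.prodCongr (.refl R Q)).trans ((LinearEquiv.prodAssoc R _ F Q).trans
      ((LinearEquiv.refl R Y.carrier).prodCongr d.symm)))⟩⟩

theorem stIso_trans {X Y Z : Obj R} : StIso X Y → StIso Y Z → StIso X Z := by
  rintro ⟨a, ⟨e⟩⟩ ⟨b, ⟨e'⟩⟩
  refine stIso_iff_add (F := (Fin a → R) × (Fin b → R)) ?_
  exact (((LinearEquiv.prodAssoc R _ _ _).symm.trans (e.prodCongr (.refl R _))).trans
    ((LinearEquiv.prodAssoc R _ _ _).trans
      (((LinearEquiv.refl R _).prodCongr (LinearEquiv.prodComm R _ _)).trans (LinearEquiv.prodAssoc R _ _ _).symm))).trans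
    ((e'.prodCongr (.refl R _)).trans ((LinearEquiv.prodAssoc R _ _ _).trans
      ((LinearEquiv.refl R _).prodCongr (LinearEquiv.prodComm R _ _))))

instance setoid : Setoid (Obj R) where
  r := StIso
  iseqv := ⟨fun _ => stIso_of_equiv (.refl R _), fun ⟨a, ⟨e⟩⟩ => ⟨a, ⟨e.symm⟩⟩, stIso_trans⟩

variable (R) in
/-- Stable classes. -/
def K : Type (u + 1) := Quotient (setoid (R := R))

/-- The class of a module. -/
def cl (M : Type u) [AddCommGroup M] [Module R M] [Module.Finite R M] [Module.Projective R M] : K R :=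
  Quotient.mk _ ⟨M⟩

theorem cl_congr {M N : Type u} [AddCommGroup M] [Module R M] [Module.Finite R M] [Module.Projective R M]
    [AddCommGroup N] [Module R N] [Module.Finite R N] [Module.Projective R N] (e : M ≃ₗ[R] N) : cl (R := R) M = cl N :=
  Quotient.sound (stIso_of_equiv (X := ⟨M⟩) (Y := ⟨N⟩) e)

theorem exact_cl {M N : Type u} [AddCommGroup M] [Module R M] [Module.Finite R M] [Module.Projective R M]
    [AddCommGroup N] [Module R N] [Module.Finite R N] [Module.Projective R N] (h : cl (R := R) M = cl N) :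
    ∃ a : ℕ, Nonempty ((M × (Fin a → R)) ≃ₗ[R] (N × (Fin a → R))) :=
  Quotient.exact h

theorem prod_stIso {X X' Y Y' : Obj R} :
    StIso X X' → StIso Y Y' → StIso (Obj.mk (R := R) (X.carrier × Y.carrier)) (Obj.mk (R := R) (X'.carrier × Y'.carrier)) := by
  rintro ⟨a, ⟨e⟩⟩ ⟨b, ⟨e'⟩⟩
  refine stIso_iff_add (F := (Fin a → R) × (Fin b → R)) ?_
  exact (LinearEquiv.prodProdProdComm R _ _ _ _).trans ((e.prodCongr e').trans (LinearEquiv.prodProdProdComm R _ _ _ _))

theorem tensor_stIso {X X' : Obj R} (Y : Obj R) :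
    StIso X X' → StIso (Obj.mk (R := R) (X.carrier ⊗[R] Y.carrier)) (Obj.mk (R := R) (X'.carrier ⊗[R] Y.carrier)) := by
  rintro ⟨a, ⟨e⟩⟩
  refine stIso_iff_add (F := (Fin a → R) ⊗[R] Y.carrier) ?_
  exact (TensorProduct.prodLeft R R _ _ _).symm.trans
    ((TensorProduct.congr e (.refl R _)).trans (TensorProduct.prodLeft R R _ _ _))

theorem tensor_stIso_right {X X' : Obj R} (Y : Obj R) (h : StIso X X') :
    StIso (Obj.mk (R := R) (Y.carrier ⊗[R] X.carrier)) (Obj.mk (R := R) (Y.carrier ⊗[R] X'.carrier)) :=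
  stIso_trans (stIso_trans (stIso_of_equiv (TensorProduct.comm R Y.carrier X.carrier)) (tensor_stIso Y h))
    (stIso_of_equiv (TensorProduct.comm R X'.carrier Y.carrier))

instance : Zero (K R) := ⟨cl PUnit⟩
instance : One (K R) := ⟨cl R⟩
instance : Add (K R) := ⟨Quotient.lift₂ (fun X Y => cl (X.carrier × Y.carrier))
  fun _ _ _ _ h h' => Quotient.sound (prod_stIso h h')⟩
instance : Mul (K R) := ⟨Quotient.lift₂ (fun X Y => cl (X.carrier ⊗[R] Y.carrier))
  fun _ _ _ _ h h' => Quotient.sound (stIso_trans (tensor_stIso _ h) (tensor_stIso_right _ h'))⟩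

theorem cl_add (M N : Type u) [AddCommGroup M] [Module R M] [Module.Finite R M] [Module.Projective R M]
    [AddCommGroup N] [Module R N] [Module.Finite R N] [Module.Projective R N] :
    cl (R := R) (M × N) = cl M + cl N := rfl

theorem cl_mul (M N : Type u) [AddCommGroup M] [Module R M] [Module.Finite R M] [Module.Projective R M]
    [AddCommGroup N] [Module R N] [Module.Finite R N] [Module.Projective R N] :
    cl (R := R) (M ⊗[R] N) = cl M * cl N := rfl

instance : AddCommMonoid (K R) where
  add_assoc := by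
    rintro ⟨X⟩ ⟨Y⟩ ⟨Z⟩
    exact cl_congr (LinearEquiv.prodAssoc R X.carrier Y.carrier Z.carrier)
  zero_add := by
    rintro ⟨X⟩
    exact cl_congr (LinearEquiv.uniqueProd (R := R) (M := X.carrier) (M₂ := PUnit.{u + 1}))
  add_zero := by
    rintro ⟨X⟩
    exact cl_congr (LinearEquiv.prodUnique (R := R) (M := X.carrier) (M₂ := PUnit.{u + 1}))
  add_comm := by
    rintro ⟨X⟩ ⟨Y⟩
    exact cl_congr (LinearEquiv.prodComm R X.carrier Y.carrier)
  nsmul := nsmulRec

instance : IsCancelAdd (K R) where
  add_left_cancel := by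
    rintro ⟨X⟩ ⟨Y⟩ ⟨Z⟩ h
    obtain ⟨a, ⟨e⟩⟩ := Quotient.exact h
    refine Quotient.sound (stIso_iff_add (F := X.carrier × (Fin a → R)) ?_)
    exact (((LinearEquiv.prodAssoc R _ _ _).symm.trans ((LinearEquiv.prodComm R _ _).prodCongr (.refl R _))).trans e).trans
      (((LinearEquiv.prodComm R _ _).prodCongr (.refl R _)).trans (LinearEquiv.prodAssoc R _ _ _))
  add_right_cancel := by
    rintro ⟨X⟩ ⟨Y⟩ ⟨Z⟩ h
    obtain ⟨a, ⟨e⟩⟩ := Quotient.exact h
    refine Quotient.sound (stIso_iff_add (F := X.carrier × (Fin a → R)) ?_)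
    exact ((LinearEquiv.prodAssoc R _ _ _).symm.trans e).trans (LinearEquiv.prodAssoc R _ _ _)

instance : CommSemiring (K R) where
  left_distrib := by
    rintro ⟨X⟩ ⟨Y⟩ ⟨Z⟩
    exact cl_congr (TensorProduct.prodRight R R X.carrier Y.carrier Z.carrier)
  right_distrib := by
    rintro ⟨X⟩ ⟨Y⟩ ⟨Z⟩
    exact cl_congr (TensorProduct.prodLeft R R X.carrier Y.carrier Z.carrier)
  zero_mul := by
    rintro ⟨X⟩
    exact cl_congr (LinearEquiv.ofSubsingleton (R := R) _ _)
  mul_zero := by
    rintro ⟨X⟩
    exact cl_congr (LinearEquiv.ofSubsingleton (R := R) _ _)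
  mul_assoc := by
    rintro ⟨X⟩ ⟨Y⟩ ⟨Z⟩
    exact cl_congr (TensorProduct.assoc R X.carrier Y.carrier Z.carrier)
  one_mul := by
    rintro ⟨X⟩
    exact cl_congr (TensorProduct.lid R X.carrier)
  mul_one := by
    rintro ⟨X⟩
    exact cl_congr (TensorProduct.rid R X.carrier)
  mul_comm := by
    rintro ⟨X⟩ ⟨Y⟩
    exact cl_congr (TensorProduct.comm R X.carrier Y.carrier)

theorem cl_pi (M : Type u) [AddCommGroup M] [Module R M] [Module.Finite R M] [Module.Projective R M] :
    ∀ n : ℕ, cl (R := R) (Fin n → M) = (n : K R) * cl M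
  | 0 => by rw [Nat.cast_zero, zero_mul]; exact cl_congr (LinearEquiv.ofSubsingleton (R := R) _ _)
  | n + 1 => by
    rw [Nat.cast_succ, add_mul, one_mul, ← cl_pi M n, ← cl_add]
    exact cl_congr ((Fin.consLinearEquiv R (fun _ : Fin (n + 1) => M)).symm.trans (LinearEquiv.prodComm R M (Fin n → M)))

theorem cl_tensorPower (P : Type u) [AddCommGroup P] [Module R P] [Module.Finite R P] [Module.Projective R P] :
    ∀ n : ℕ, ∃ (_ : Module.Finite R (TensorPower R (n + 1) P)) (_ : Module.Projective R (TensorPower R (n + 1) P)),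
      cl (R := R) (TensorPower R (n + 1) P) = cl P ^ (n + 1)
  | 0 => by
    let e := (PiTensorProduct.subsingletonEquiv (R := R) (s := fun _ : Fin 1 => P) 0).symm
    haveI : Module.Finite R (TensorPower R 1 P) := Module.Finite.equiv e
    haveI : Module.Projective R (TensorPower R 1 P) := Module.Projective.of_equiv e
    exact ⟨inferInstance, inferInstance, by rw [pow_one]; exact (cl_congr e).symm⟩
  | n + 1 => by
    obtain ⟨h1, h2, h3⟩ := cl_tensorPower P n
    obtain ⟨h1', h2', h3'⟩ : ∃ (_ : Module.Finite R (TensorPower R 1 P)) (_ : Module.Projective R (TensorPower R 1 P)),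
        cl (R := R) (TensorPower R 1 P) = cl P := by
      obtain ⟨a, b, c⟩ := cl_tensorPower P 0
      exact ⟨a, b, c.trans (pow_one _)⟩
    let e := TensorPower.mulEquiv (R := R) (M := P) (n := n + 1) (m := 1)
    haveI : Module.Finite R (TensorPower R (n + 1 + 1) P) := Module.Finite.equiv e
    haveI : Module.Projective R (TensorPower R (n + 1 + 1) P) := Module.Projective.of_equiv e
    exact ⟨inferInstance, inferInstance, by rw [← cl_congr e, cl_mul, h3, h3', ← pow_succ]⟩

/-- The Grothendieck group. -/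
abbrev G (R : Type u) [CommRing R] : Type (u + 1) := Algebra.GrothendieckAddGroup (K R)

/-- Multiplication, as an endomorphism of the Grothendieck group. -/
noncomputable def rho (x : K R) : AddMonoid.End (G R) :=
  Algebra.GrothendieckAddGroup.lift ((Algebra.GrothendieckAddGroup.of).comp (AddMonoidHom.mulLeft x))

theorem rho_of (x y : K R) : rho x (Algebra.GrothendieckAddGroup.of y) = Algebra.GrothendieckAddGroup.of (x * y) := by
  have := DFunLike.congr_fun (Algebra.GrothendieckAddGroup.lift.symm_apply_apply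
    ((Algebra.GrothendieckAddGroup.of).comp (AddMonoidHom.mulLeft x))) y
  exact this

theorem end_ext {f g : AddMonoid.End (G R)}
    (h : ∀ y : K R, f (Algebra.GrothendieckAddGroup.of y) = g (Algebra.GrothendieckAddGroup.of y)) : f = g :=
  Algebra.GrothendieckAddGroup.lift.symm.injective (AddMonoidHom.ext h)

/-- The representation of the semiring on the Grothendieck group. -/
noncomputable def rhoHom : K R →+* AddMonoid.End (G R) where
  toFun := rho
  map_one' := end_ext fun y => by rw [rho_of, one_mul]; rfl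
  map_mul' x y := end_ext fun z => by
    rw [rho_of]
    show _ = rho x (rho y _)
    rw [rho_of, rho_of, mul_assoc]
  map_zero' := end_ext fun y => by rw [rho_of, zero_mul, map_zero]; rfl
  map_add' x y := end_ext fun z => by
    show _ = rho x _ + rho y _
    rw [rho_of, rho_of, rho_of, add_mul, map_add]

theorem rhoHom_injective : Function.Injective (rhoHom (R := R)) := fun x y h => by
  have h1 := DFunLike.congr_fun h (Algebra.GrothendieckAddGroup.of 1)
  rw [show rhoHom x = rho x from rfl, show rhoHom y = rho y from rfl, rho_of, rho_of, mul_one, mul_one] at h1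
  exact Algebra.GrothendieckAddGroup.of_injective h1

end Groth.Agent.StableK0Lib
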