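import Groth.Agent.StableK0Lib.Classes

/-! Nilpotency of the class of a locally trivial module minus its rank. -/

set_option autoImplicit false
set_option linter.style.haveILetI false

universe u

open TensorProduct LinearMap

namespace Groth.Agent.StableK0Lib

variable {R : Type u} [CommRing R]

/-- A two-periodic complex of finite projective modules. -/
structure Cx (R : Type u) [CommRing R] where
  ev : Obj R
  od : Obj R
  d : ev.carrier →ₗ[R] od.carrier
  d' : od.carrier →ₗ[R] ev.carrier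
  hd : ∀ w, d (d' w) = 0
  hd' : ∀ u, d' (d u) = 0

/-- `t` is null-homotopic on the complex. -/
def Cx.Null (C : Cx R) (t : R) : Prop :=
  ∃ (h : C.od.carrier →ₗ[R] C.ev.carrier) (h' : C.ev.carrier →ₗ[R] C.od.carrier),
    (∀ u, h (C.d u) + C.d' (h' u) = t • u) ∧ ∀ w, C.d (h w) + h' (C.d' w) = t • w

theorem Cx.null_ideal (C : Cx R) {s : Set R} (hs : ∀ t ∈ s, C.Null t) {t : R} (ht : t ∈ Ideal.span s) : C.Null t := by
  induction ht using Submodule.span_induction with
  | mem x hx => exact hs x hx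
  | zero => exact ⟨0, 0, fun u => by simp, fun w => by simp⟩
  | add x y _ _ hx hy =>
    obtain ⟨h, h', h1, h2⟩ := hx
    obtain ⟨g, g', g1, g2⟩ := hy
    exact ⟨h + g, h' + g', fun u => by
      simp only [LinearMap.add_apply, map_add, add_smul, ← h1, ← g1]; abel, fun w => by
      simp only [LinearMap.add_apply, map_add, add_smul, ← h2, ← g2]; abel⟩
  | smul c x _ hx =>
    obtain ⟨h, h', h1, h2⟩ := hx
    exact ⟨c • h, c • h', fun u => by
      simp only [LinearMap.smul_apply, map_smul, smul_eq_mul, mul_smul, ← smul_add, h1], fun w => by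
      simp only [LinearMap.smul_apply, map_smul, smul_eq_mul, mul_smul, ← smul_add, h2]⟩

theorem Cx.cl_eq_of_null_one (C : Cx R) (h1 : C.Null 1) : cl (R := R) C.ev.carrier = cl C.od.carrier := by
  obtain ⟨h, h', e1, e2⟩ := h1
  simp only [one_smul] at e1 e2
  have i1 : ∀ u, C.d (h (C.d u)) = C.d u := fun u => by
    have := e2 (C.d u); rw [C.hd', map_zero, add_zero] at this; exact this
  have i2 : ∀ w, C.d' (h' (C.d' w)) = C.d' w := fun w => by
    have := e1 (C.d' w); rw [C.hd, map_zero, zero_add] at this; exact this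
  let g := h ∘ₗ C.d ∘ₗ h
  let g' := h' ∘ₗ C.d' ∘ₗ h'
  have f1 : ∀ u, g (C.d u) + C.d' (g' u) = u := fun u => by
    show h (C.d (h (C.d u))) + C.d' (h' (C.d' (h' u))) = u
    rw [i1, i2, e1]
  have f2 : ∀ w, C.d (g w) + g' (C.d' w) = w := fun w => by
    show C.d (h (C.d (h w))) + h' (C.d' (h' (C.d' w))) = w
    rw [i1, i2, e2]
  have f3 : ∀ u, g (g' u) = 0 := fun u => by
    show h (C.d (h (h' (C.d' (h' u))))) = 0
    have a1 : C.d (h (h' (C.d' (h' u)))) = 0 := by
      have := e2 (h' (C.d' (h' u)))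
      rw [i2] at this
      exact add_eq_right.1 this
    rw [a1, map_zero]
  have f4 : ∀ w, g' (g w) = 0 := fun w => by
    show h' (C.d' (h' (h (C.d (h w))))) = 0
    have a1 : C.d' (h' (h (C.d (h w)))) = 0 := by
      have := e1 (h (C.d (h w)))
      rw [i1] at this
      exact add_eq_left.1 this
    rw [a1, map_zero]
  exact cl_congr (LinearEquiv.ofLinear (C.d + g') (C.d' + g)
    (LinearMap.ext fun w => by
      show C.d (C.d' w + g w) + g' (C.d' w + g w) = w
      rw [map_add, map_add, C.hd, zero_add, f4, add_zero, f2])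
    (LinearMap.ext fun u => by
      show C.d' (C.d u + g' u) + g (C.d u + g' u) = u
      rw [map_add, map_add, C.hd', zero_add, f3, add_zero, add_comm, f1]))

theorem rT {A A' B B' : Type*} [AddCommGroup A] [AddCommGroup A'] [AddCommGroup B] [AddCommGroup B'] [Module R A]
    [Module R A'] [Module R B] [Module R B'] (f : A →ₗ[R] A') (g : B →ₗ[R] B') (z : A ⊗[R] B) :
    f.rTensor B' (g.lTensor A z) = g.lTensor A' (f.rTensor B z) := by
  rw [← LinearMap.comp_apply, ← LinearMap.comp_apply, LinearMap.rTensor_comp_lTensor, LinearMap.lTensor_comp_rTensor]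

theorem rT_comp_zero {A A' A'' B : Type*} [AddCommGroup A] [AddCommGroup A'] [AddCommGroup A''] [AddCommGroup B]
    [Module R A] [Module R A'] [Module R A''] [Module R B] {f : A →ₗ[R] A'} {g : A' →ₗ[R] A''}
    (h : ∀ a, g (f a) = 0) (z : A ⊗[R] B) : g.rTensor B (f.rTensor B z) = 0 := by
  rw [← LinearMap.rTensor_comp_apply, show g ∘ₗ f = 0 from LinearMap.ext h, LinearMap.rTensor_zero, LinearMap.zero_apply]

theorem rT_add {A A₁ A₂ B : Type*} [AddCommGroup A] [AddCommGroup A₁] [AddCommGroup A₂] [AddCommGroup B]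
    [Module R A] [Module R A₁] [Module R A₂] [Module R B] {f₁ : A →ₗ[R] A₁} {g₁ : A₁ →ₗ[R] A}
    {f₂ : A →ₗ[R] A₂} {g₂ : A₂ →ₗ[R] A} {t : R} (h : ∀ a, g₁ (f₁ a) + g₂ (f₂ a) = t • a) (z : A ⊗[R] B) :
    g₁.rTensor B (f₁.rTensor B z) + g₂.rTensor B (f₂.rTensor B z) = t • z := by
  rw [← LinearMap.rTensor_comp_apply, ← LinearMap.rTensor_comp_apply, ← LinearMap.add_apply, ← LinearMap.rTensor_add,
    show g₁ ∘ₗ f₁ + g₂ ∘ₗ f₂ = t • LinearMap.id from LinearMap.ext h, LinearMap.rTensor_smul, LinearMap.rTensor_id]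
  rfl

theorem lT_smul {A B B' : Type*} [AddCommGroup A] [AddCommGroup B] [AddCommGroup B'] [Module R A] [Module R B]
    [Module R B'] {α : B →ₗ[R] B'} {β : B' →ₗ[R] B} {s : R} (h : ∀ b, β (α b) = s • b) (z : A ⊗[R] B) :
    β.lTensor A (α.lTensor A z) = s • z := by
  rw [← LinearMap.lTensor_comp_apply, show β ∘ₗ α = s • LinearMap.id from LinearMap.ext h, LinearMap.lTensor_smul,
    LinearMap.lTensor_id]
  rfl

variable (P F : Type u) [AddCommGroup P] [Module R P] [Module.Finite R P] [Module.Projective R P]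
  [AddCommGroup F] [Module R F] [Module.Finite R F] [Module.Projective R F]

/-- The class of the complex as an endomorphism. -/
noncomputable def Cx.chi (C : Cx R) : AddMonoid.End (G R) := rhoHom (cl C.ev.carrier) - rhoHom (cl C.od.carrier)

theorem exists_cx : ∀ l : List (R × (P →ₗ[R] F) × (F →ₗ[R] P)),
    (∀ x ∈ l, (∀ a, x.2.2 (x.2.1 a) = x.1 • a) ∧ ∀ b, x.2.1 (x.2.2 b) = x.1 • b) →
    ∃ C : Cx R, C.chi = (rhoHom (cl P) - rhoHom (cl F)) ^ l.length ∧ ∀ x ∈ l, C.Null x.1
  | [], _ => by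
    refine ⟨⟨⟨R⟩, ⟨PUnit⟩, 0, 0, fun _ => rfl, fun _ => rfl⟩, ?_, fun x hx => by simp at hx⟩
    rw [List.length_nil, pow_zero, Cx.chi, show cl (R := R) R = 1 from rfl, show cl (R := R) PUnit = 0 from rfl,
      map_one, map_zero, sub_zero]
  | ⟨s, α, β⟩ :: l, hl => by
    obtain ⟨hβα, hαβ⟩ := hl _ (List.mem_cons_self ..)
    obtain ⟨C, hC, hnull⟩ := exists_cx l fun x hx => hl x (List.mem_cons_of_mem _ hx)
    let D : (C.ev.carrier ⊗[R] P × C.od.carrier ⊗[R] F) →ₗ[R] (C.od.carrier ⊗[R] P × C.ev.carrier ⊗[R] F) :=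
      (C.d.rTensor P ∘ₗ LinearMap.fst R _ _).prod
        (α.lTensor _ ∘ₗ LinearMap.fst R _ _ + C.d'.rTensor F ∘ₗ LinearMap.snd R _ _)
    let D' : (C.od.carrier ⊗[R] P × C.ev.carrier ⊗[R] F) →ₗ[R] (C.ev.carrier ⊗[R] P × C.od.carrier ⊗[R] F) :=
      (C.d'.rTensor P ∘ₗ LinearMap.fst R _ _).prod
        (-(α.lTensor C.od.carrier ∘ₗ LinearMap.fst R (C.od.carrier ⊗[R] P) (C.ev.carrier ⊗[R] F)) + C.d.rTensor F ∘ₗ LinearMap.snd R _ _)
    have hD : ∀ w, D (D' w) = 0 := by
      rintro ⟨w, z⟩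
      refine Prod.ext (rT_comp_zero C.hd w) ?_
      show α.lTensor _ (C.d'.rTensor P w) + C.d'.rTensor F (-(α.lTensor _ w) + C.d.rTensor F z) = 0
      rw [map_add, map_neg, rT, rT_comp_zero C.hd', add_zero, add_neg_cancel]
    have hD' : ∀ w, D' (D w) = 0 := by
      rintro ⟨u, v⟩
      refine Prod.ext (rT_comp_zero C.hd' u) ?_
      show -(α.lTensor _ (C.d.rTensor P u)) + C.d.rTensor F (α.lTensor _ u + C.d'.rTensor F v) = 0
      rw [map_add, rT, rT_comp_zero C.hd, add_zero, neg_add_cancel]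
    refine ⟨⟨⟨C.ev.carrier ⊗[R] P × C.od.carrier ⊗[R] F⟩, ⟨C.od.carrier ⊗[R] P × C.ev.carrier ⊗[R] F⟩, D, D', hD, hD'⟩,
      ?_, ?_⟩
    · rw [List.length_cons, pow_succ, ← hC, Cx.chi, Cx.chi, cl_add, cl_add, cl_mul, cl_mul, cl_mul, cl_mul,
        map_add, map_add, map_mul, map_mul, map_mul, map_mul]
      simp only [sub_mul, mul_sub]
      abel
    · intro x hx
      rcases List.mem_cons.1 hx with rfl | hx
      · refine ⟨(β.lTensor _ ∘ₗ LinearMap.snd R _ _).prod 0, (-(β.lTensor C.od.carrier ∘ₗ LinearMap.snd R (C.ev.carrier ⊗[R] P) (C.od.carrier ⊗[R] F))).prod 0, ?_, ?_⟩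
        · rintro ⟨u, v⟩
          refine Prod.ext ?_ ?_
          · show β.lTensor _ (α.lTensor _ u + C.d'.rTensor F v) + C.d'.rTensor P (-(β.lTensor _ v)) = s • u
            rw [map_add, map_neg, lT_smul hβα, ← rT, add_assoc, add_neg_cancel, add_zero]
          · show (0 : C.od.carrier ⊗[R] F) + (-(α.lTensor _ (-(β.lTensor _ v))) + C.d.rTensor F 0) = s • v
            rw [map_neg, neg_neg, lT_smul hαβ, map_zero, add_zero, zero_add]
        · rintro ⟨w, z⟩
          refine Prod.ext ?_ ?_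
          · show C.d.rTensor P (β.lTensor _ z) + -(β.lTensor _ (-(α.lTensor _ w) + C.d.rTensor F z)) = s • w
            rw [map_add, map_neg, lT_smul hβα, rT, neg_add_rev, neg_neg, add_neg_cancel_left]
          · show α.lTensor _ (β.lTensor _ z) + C.d'.rTensor F 0 + 0 = s • z
            rw [lT_smul hαβ, map_zero, add_zero, add_zero]
      · obtain ⟨h, h', h1, h2⟩ := hnull x hx
        refine ⟨(h.rTensor P ∘ₗ LinearMap.fst R _ _).prod (h'.rTensor F ∘ₗ LinearMap.snd R _ _),
          (h'.rTensor P ∘ₗ LinearMap.fst R _ _).prod (h.rTensor F ∘ₗ LinearMap.snd R _ _), ?_, ?_⟩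
        · rintro ⟨u, v⟩
          refine Prod.ext (rT_add h1 u) ?_
          show h'.rTensor F (α.lTensor _ u + C.d'.rTensor F v) +
            (-(α.lTensor _ (h'.rTensor P u)) + C.d.rTensor F (h.rTensor F v)) = x.1 • v
          rw [map_add, rT, add_assoc, add_left_comm (h'.rTensor F _), add_neg_cancel_left]
          exact (add_comm _ _).trans (rT_add h2 v)
        · rintro ⟨w, z⟩
          refine Prod.ext (rT_add h2 w) ?_
          show (α.lTensor _ (h.rTensor P w) + C.d'.rTensor F (h'.rTensor F z)) +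
            h.rTensor F (-(α.lTensor _ w) + C.d.rTensor F z) = x.1 • z
          rw [map_add, map_neg, rT, add_assoc, ← add_assoc (C.d'.rTensor F _), add_comm (C.d'.rTensor F _), add_assoc,
            add_neg_cancel_left]
          exact (add_comm _ _).trans (rT_add h1 z)

/-- The difference is nilpotent. -/
theorem pow_eq_zero_of_cover (l : List (R × (P →ₗ[R] F) × (F →ₗ[R] P)))
    (hl : ∀ x ∈ l, (∀ a, x.2.2 (x.2.1 a) = x.1 • a) ∧ ∀ b, x.2.1 (x.2.2 b) = x.1 • b)
    (hcov : Ideal.span {t | ∃ x ∈ l, x.1 = t} = ⊤) :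
    (rhoHom (cl (R := R) P) - rhoHom (cl F)) ^ l.length = 0 := by
  obtain ⟨C, hC, hnull⟩ := exists_cx P F l hl
  have h1 : C.Null 1 := C.null_ideal (s := {t | ∃ x ∈ l, x.1 = t}) (fun t ⟨x, hx, e⟩ => e ▸ hnull x hx)
    (hcov ▸ Submodule.mem_top)
  rw [← hC, Cx.chi, C.cl_eq_of_null_one h1, sub_self]

end Groth.Agent.StableK0Lib
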